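import Groth.Agent.Misc12.GRingPair.Fibre
import Groth.Agent.Misc12.HensQuot.Basic
import Groth.Agent.Misc12.EtNbhdApprox.Chart
import Groth.Agent.EtaleAlgebra.PairNoeth
import Groth.Agent.Ega4Algebra1.ExcellentLoc
import Groth.Agent.S2047

/-! Henselizations of pairs over G-rings are G-rings. -/

set_option autoImplicit false
set_option linter.style.haveILetI false
universe u

open IsLocalRing

namespace Groth.Misc12.GRingPair

open Groth.Agent.Misc12.EtNbhdApprox (Cpl)

/-- Completions at maximal ideals with the same truncations. -/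
theorem cpl_equiv {A B : Type u} [CommRing A] [CommRing B] [Algebra A B] (n : Ideal A) (m : Ideal B)
    [m.IsMaximal] (hm : m = n.map (algebraMap A B))
    (hs : ∀ (k : ℕ) (b : B), ∃ a : A, b - algebraMap A B a ∈ m ^ k)
    (hi : ∀ (k : ℕ) (a : A), algebraMap A B a ∈ m ^ k → a ∈ n ^ k)
    (L : Type u) [CommRing L] [IsLocalRing L] [Algebra B L] [Algebra A L] [IsScalarTower A B L]
    [IsLocalization.AtPrime L m] :
    Nonempty (AdicCompletion n A ≃ₐ[A] Cpl L) := by
  have hmax : maximalIdeal L = m.map (algebraMap B L) :=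
    (IsLocalization.AtPrime.map_eq_maximalIdeal m L).symm
  refine Groth.Misc12.HensQuot.completion_equiv_of_quot_bijective (Algebra.ofId A L) n (maximalIdeal L)
    ?_ (fun k y => ?_) fun k a ha => ?_
  · rw [hmax, hm, Ideal.map_map, ← IsScalarTower.algebraMap_eq]; rfl
  · obtain ⟨q, hq⟩ := (IsLocalization.AtPrime.equivQuotMaximalIdealPow m L k).surjective (Ideal.Quotient.mk _ y)
    obtain ⟨b, rfl⟩ := Ideal.Quotient.mk_surjective q
    rw [IsLocalization.AtPrime.equivQuotMaximalIdealPow_apply_mk, Ideal.Quotient.eq] at hq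
    obtain ⟨a, ha⟩ := hs k b
    refine ⟨a, ?_⟩
    have h1 : algebraMap B L (b - algebraMap A B a) ∈ maximalIdeal L ^ k := by
      rw [hmax, ← Ideal.map_pow]; exact Ideal.mem_map_of_mem _ ha
    have h2 := sub_mem h1 hq
    rw [map_sub, ← IsScalarTower.algebraMap_apply] at h2
    have h3 : (algebraMap B L b - algebraMap A L a) - (algebraMap B L b - y) =
        y - algebraMap A L a := by ring
    rw [h3] at h2
    exact h2
  · refine hi k a (Ideal.Quotient.eq_zero_iff_mem.1 ?_)
    refine (IsLocalization.AtPrime.equivQuotMaximalIdealPow m L k).injective ?_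
    rw [IsLocalization.AtPrime.equivQuotMaximalIdealPow_apply_mk, map_zero, Ideal.Quotient.eq_zero_iff_mem,
      ← IsScalarTower.algebraMap_apply]
    exact ha

theorem isGRing_of_isPairHenselization {A B : Type u} [CommRing A] (hA : CAlg.IsGRing A) {I : Ideal A}
    [CommRing B] [Algebra A B] (hB : Hens2.IsPairHenselization A I B) : CAlg.IsGRing B := by
  haveI := hA.1
  haveI := Groth.EtaleAlgebra.isNoetherianRing_of_isPairHenselization hB
  refine Groth.Agent.S2047.result.2 fun m hm => ?_
  haveI := hm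
  have hIm : I.map (algebraMap A B) ≤ m := hB.1.jac.trans (sInf_le ⟨bot_le, hm⟩)
  let n := m.comap (algebraMap A B)
  have hIn : I ≤ n := Ideal.map_le_iff_le_comap.1 hIm
  have hsub := fun x => Groth.HensPair.exists_sub_mem hB x
  haveI : n.IsMaximal := by
    have hsurj : Function.Surjective ((Ideal.Quotient.mk m).comp (algebraMap A B)) := fun q => by
      obtain ⟨x, rfl⟩ := Ideal.Quotient.mk_surjective q
      obtain ⟨a, ha⟩ := hsub x
      exact ⟨a, (Ideal.Quotient.eq.2 (hIm ha)).symm⟩
    letI : Field (B ⧸ m) := Ideal.Quotient.field m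
    have h := RingHom.ker_isMaximal_of_surjective ((Ideal.Quotient.mk m).comp (algebraMap A B)) hsurj
    rwa [← RingHom.comap_ker, Ideal.mk_ker] at h
  have hnm : m = n.map (algebraMap A B) := by
    refine le_antisymm (fun x hx => ?_) (Ideal.map_comap_le)
    obtain ⟨a, ha⟩ := hsub x
    have h1 : a ∈ n := by
      have := sub_mem hx (hIm ha)
      rwa [sub_sub_cancel] at this
    have h2 := add_mem (Ideal.map_mono hIn ha) (Ideal.mem_map_of_mem (algebraMap A B) h1)
    rwa [sub_add_cancel] at h2
  have hs : ∀ (k : ℕ) (b : B), ∃ a : A, b - algebraMap A B a ∈ m ^ k := fun k b => by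
    obtain ⟨q, hq⟩ := (Groth.HensPair.quotPow_bijective hB k).2 (Ideal.Quotient.mk _ b)
    obtain ⟨a, rfl⟩ := Ideal.Quotient.mk_surjective q
    rw [Ideal.quotientMap_mk, Ideal.Quotient.eq] at hq
    refine ⟨a, ?_⟩
    rw [← neg_sub]
    refine neg_mem (?_ : _ ∈ m ^ k)
    rw [hnm, ← Ideal.map_pow]
    exact Ideal.map_mono (Ideal.pow_right_mono hIn k) hq
  have hi : ∀ (k : ℕ) (a : A), algebraMap A B a ∈ m ^ k → a ∈ n ^ k := fun k a ha => by
    rw [hnm, ← Ideal.map_pow] at ha
    have hb := Groth.HensPair.quotPow_bijective hB k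
    have h2 := Ideal.mem_map_of_mem (Ideal.Quotient.mk ((I ^ k).map (algebraMap A B))) ha
    rw [Ideal.map_map, show (Ideal.Quotient.mk ((I ^ k).map (algebraMap A B))).comp (algebraMap A B) =
      (Ideal.quotientMap _ (algebraMap A B) Ideal.le_comap_map).comp (Ideal.Quotient.mk (I ^ k)) from
      RingHom.ext fun _ => rfl, ← Ideal.map_map, Ideal.mem_map_iff_of_surjective _ hb.2] at h2
    obtain ⟨q, hq1, hq2⟩ := h2
    have h3 : q = Ideal.Quotient.mk (I ^ k) a := hb.1 (by rw [hq2]; rfl)
    rw [h3, Ideal.mem_map_iff_of_surjective _ Ideal.Quotient.mk_surjective] at hq1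
    obtain ⟨w, hw, hwx⟩ := hq1
    rw [Ideal.Quotient.eq] at hwx
    have h4 := sub_mem hw (Ideal.pow_right_mono hIn k hwx)
    rwa [sub_sub_cancel] at h4
  obtain ⟨eB⟩ := cpl_equiv n m hnm hs hi (Localization.AtPrime m)
  obtain ⟨eA⟩ := cpl_equiv n n (by simp) (fun k b => ⟨b, by simp⟩) (fun k a ha => by simpa using ha)
    (Localization.AtPrime n)
  have hAn : CAlg.IsRegularHom A (Cpl (Localization.AtPrime n)) :=
    Groth.Agent.Misc12.EtNbhdApprox.isRegularHom_cpl n _
      (Groth.Ega4Algebra1.isGRing_localization hA n.primeCompl)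
  have hAB : CAlg.IsRegularHom A (Cpl (Localization.AtPrime m)) :=
    Groth.Calg4.IsRegularHom.of_algEquiv (eA.symm.trans eB) hAn
  haveI : IsNoetherianRing (Localization.AtPrime m) :=
    IsLocalization.isNoetherianRing m.primeCompl _ inferInstance
  haveI : IsNoetherianRing (Cpl (Localization.AtPrime m)) :=
    Groth.Agent.S0543.result _ (maximalIdeal (Localization.AtPrime m))
  haveI : Module.Flat (Localization.AtPrime m) (Cpl (Localization.AtPrime m)) :=
    AdicCompletion.flat_of_isNoetherian _
  haveI : Module.Flat B (Localization.AtPrime m) := IsLocalization.flat _ m.primeCompl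
  haveI : Module.Flat B (Cpl (Localization.AtPrime m)) := Module.Flat.trans B (Localization.AtPrime m) _
  have hBC : CAlg.IsRegularHom B (Cpl (Localization.AtPrime m)) :=
    isRegularHom_of_fibres (fun p _ => fibre_pi_separable (isIndEtale_of_isPairHenselization hB) p) hAB
  exact Groth.Calg4.IsRegularHom.localization_source m.primeCompl hBC

end Groth.Misc12.GRingPair
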